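import Cfsg.Agent.Lib.Helper65.Asch.Defs
import Cfsg.Agent.Lib.Helper55.Asch.DecCore

set_option autoImplicit false

/-! # Piece Y3 of helper65's farm: the stabiliser of a decomposition into four lines is the
monomial group in a suitable frame -/

namespace Cfsg.Agent.Lib.Helper11.Asch

open Cfsg Cfsg.Geo Matrix Cfsg.Agent.Lib.Helper65.Asch
open scoped MatrixGroups

variable {F : Type*} [Field F]

theorem mono_mulVec (σ : Equiv.Perm (Fin 4)) (d w : Fin 4 → F) (x : Fin 4) :
    (mono σ d *ᵥ w) (σ x) = d x * w x := by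
  simp [Matrix.mulVec, dotProduct, mono, σ.injective.eq_iff]

/-- Y3 -/
theorem exists_frame4 (D : Fin 4 → Submodule F (Fin 4 → F)) (hD : IsMDecomposition 1 D) :
    ∃ B : GL (Fin 4) F, ∀ g : GL (Fin 4) F, g ∈ decompositionStabilizer D ↔
      ∃ (σ : Equiv.Perm (Fin 4)) (d : Fin 4 → F),
        ((B⁻¹ * g * B : GL (Fin 4) F) : Matrix (Fin 4) (Fin 4) F) = mono σ d := by
  obtain ⟨Φ, hΦ⟩ := Cfsg.Agent.Lib.Helper55.Asch.exists_coord hD
  set T : (Fin 4 → F) ≃ₗ[F] (Fin 4 → F) :=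
    Φ.trans (LinearEquiv.piCongrRight fun _ => LinearEquiv.funUnique (Fin 1) F F) with hT
  have hTa : ∀ u j, T u j = Φ u j 0 := fun u j => rfl
  have K1 : ∀ i u, u ∈ D i ↔ ∀ j, j ≠ i → T u j = 0 := by
    intro i u
    rw [hΦ]
    refine forall_congr' fun j => imp_congr_right fun _ => ?_
    rw [hTa]
    constructor
    · intro h; rw [h]; rfl
    · intro h; ext a; rw [Subsingleton.elim a 0, h]; rfl
  let B : GL (Fin 4) F :=
    ⟨LinearMap.toMatrix' T.symm.toLinearMap, LinearMap.toMatrix' T.toLinearMap,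
      by rw [← LinearMap.toMatrix'_comp]; simp, by rw [← LinearMap.toMatrix'_comp]; simp⟩
  have hB : ∀ w, (B : Matrix (Fin 4) (Fin 4) F) *ᵥ w = T.symm w := fun w => by
    show LinearMap.toMatrix' _ *ᵥ w = _
    rw [LinearMap.toMatrix'_mulVec]; rfl
  have hBi : ∀ w, ((B⁻¹ : GL (Fin 4) F) : Matrix (Fin 4) (Fin 4) F) *ᵥ w = T w := fun w => by
    show LinearMap.toMatrix' _ *ᵥ w = _
    rw [LinearMap.toMatrix'_mulVec]; rfl
  have K2 : ∀ (g : GL (Fin 4) F) w, ((B⁻¹ * g * B : GL (Fin 4) F) : Matrix (Fin 4) (Fin 4) F) *ᵥ w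
      = T ((g : Matrix (Fin 4) (Fin 4) F) *ᵥ T.symm w) := by
    intro g w
    rw [Units.val_mul, Units.val_mul, ← Matrix.mulVec_mulVec, ← Matrix.mulVec_mulVec, hB, hBi]
  refine ⟨B, fun g => ⟨?_, ?_⟩⟩
  · intro hg
    obtain ⟨σ, A, hA0, hA⟩ := Cfsg.Agent.Lib.Helper55.Asch.exists_blocks Φ hΦ g hg
    refine ⟨σ, fun i => A i 0 0, ?_⟩
    ext x y
    obtain ⟨i, rfl⟩ := σ.surjective x
    have h1 : ((B⁻¹ * g * B : GL (Fin 4) F) : Matrix (Fin 4) (Fin 4) F) (σ i) y =
        (((B⁻¹ * g * B : GL (Fin 4) F) : Matrix (Fin 4) (Fin 4) F) *ᵥ Pi.single y 1) (σ i) := by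
      rw [Matrix.mulVec_single_one]; rfl
    have h2 : Φ (T.symm (Pi.single y 1)) i 0 = (Pi.single y 1 : Fin 4 → F) i := by
      rw [← hTa, LinearEquiv.apply_symm_apply]
    rw [h1, K2, hTa, hA]
    simp only [Matrix.mulVec, dotProduct, Finset.univ_unique, Fin.default_eq_zero,
      Finset.sum_singleton, h2, mono, σ.injective.eq_iff]
    by_cases hiy : i = y
    · subst hiy; simp
    · simp [hiy]
  · rintro ⟨σ, d, hM⟩
    have K3 : ∀ u x, T ((g : Matrix (Fin 4) (Fin 4) F) *ᵥ u) (σ x) = d x * T u x := by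
      intro u x
      have := K2 g (T u)
      rw [LinearEquiv.symm_apply_apply, hM] at this
      rw [← this, mono_mulVec]
    have hd : ∀ i, d i ≠ 0 := by
      intro i hi
      have h0 : T ((g : Matrix (Fin 4) (Fin 4) F) *ᵥ T.symm (Pi.single i 1)) = 0 := by
        ext x
        obtain ⟨j, rfl⟩ := σ.surjective x
        rw [K3, LinearEquiv.apply_symm_apply]
        by_cases hji : j = i
        · subst hji; simp [hi]
        · simp [hji]
      have h1 : (g : Matrix (Fin 4) (Fin 4) F) *ᵥ T.symm (Pi.single i 1) = 0 := by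
        simpa using h0
      have h2 : T.symm (Pi.single i 1) = 0 := by
        have := congrArg (fun v => ((g⁻¹ : GL (Fin 4) F) : Matrix (Fin 4) (Fin 4) F) *ᵥ v) h1
        simpa [Matrix.mulVec_mulVec, ← Units.val_mul] using this
      have h3 : (Pi.single i 1 : Fin 4 → F) = 0 := by simpa using h2
      have := congrFun h3 i
      simp at this
    refine ⟨σ, fun i => ?_⟩
    ext v
    rw [Submodule.mem_map]
    constructor
    · rintro ⟨u, hu, rfl⟩
      rw [Matrix.toLin'_apply, K1]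
      intro x hx
      obtain ⟨j, rfl⟩ := σ.surjective x
      rw [K3, (K1 i u).1 hu j (fun h => hx (by rw [h])), mul_zero]
    · intro hv
      refine ⟨((g⁻¹ : GL (Fin 4) F) : Matrix (Fin 4) (Fin 4) F) *ᵥ v, ?_, ?_⟩
      · rw [K1]
        intro j hj
        have h1 := K3 (((g⁻¹ : GL (Fin 4) F) : Matrix (Fin 4) (Fin 4) F) *ᵥ v) j
        rw [Matrix.mulVec_mulVec, ← Units.val_mul, mul_inv_cancel, Units.val_one,
          Matrix.one_mulVec, (K1 (σ i) v).1 hv (σ j) (fun h => hj (σ.injective h))] at h1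
        rcases mul_eq_zero.1 h1.symm with h | h
        · exact absurd h (hd j)
        · exact h
      · rw [Matrix.toLin'_apply, Matrix.mulVec_mulVec, ← Units.val_mul, mul_inv_cancel,
          Units.val_one, Matrix.one_mulVec]

end Cfsg.Agent.Lib.Helper11.Asch
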